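import Cfsg.Agent.Lib.KnownA.OneSevenFiveData.II0.F0

set_option autoImplicit false
set_option maxRecDepth 100000

namespace CfsgLib.KnownA.OneSevenFive.II0

open CfsgLib.InvChar.Coset

theorem chk_rows : table.chkRows cert live fin 1 0 = true := by decide +kernel

theorem facts_ok : ∀ j < 4, cert.chkRun 128 (j * 128) (cert.just.get j) = true := by
  intro j hj
  rcases Nat.lt_or_ge j 4 with h | h
  · obtain ⟨i, rfl⟩ : ∃ i, j = 0 + i := ⟨j - 0, by omega⟩
    exact chkBlocks_get (D := cert) 4 0 chk_facts0 i (by omega)
  omega

theorem covered : Covered cert table live fin where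
  hg15 := by decide +kernel
  hn := by decide +kernel
  facts := ⟨4, by decide +kernel, facts_ok⟩
  rows := fun i hi => chkRows_get 1 0 chk_rows i (Nat.zero_le i) (by
    have : i < 1 := hi
    omega)
  root := by decide +kernel

end CfsgLib.KnownA.OneSevenFive.II0
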